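import Groth.Agent.ConeLib.Pointed
import Groth.Agent.FibreLib.Proj

/-! Laurent charts of the retraction of the pointed affine cone. -/

set_option autoImplicit false
set_option linter.unusedSectionVars false

namespace Groth.Agent.ConeLib

open CategoryTheory CategoryTheory.Limits AlgebraicGeometry TopologicalSpace
open HomogeneousLocalization

universe u

variable {R A : Type u} [CommRing R] [CommRing A] [Algebra R A] {𝒜 : ℕ → Submodule R A} [GradedAlgebra 𝒜]

theorem chart_opensRange {d : ℕ} {f : A} (hf : f ∈ 𝒜 d) (hd : 0 < d) :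
    (Cone.chart hf hd).opensRange = retr (𝒜 := 𝒜) ⁻¹ᵁ (Proj.awayι 𝒜 f hf hd).opensRange := by
  rw [Proj.opensRange_awayι, retr_preimage hf hd]
  ext y
  constructor
  · rintro ⟨w, rfl⟩
    show (Cone.pointed 𝒜).ι (Cone.chart hf hd w) ∈ (PrimeSpectrum.basicOpen f : Set (PrimeSpectrum A))
    rw [← range_algebraMap, ← Scheme.Hom.comp_apply, chart_ι]
    exact ⟨w, rfl⟩
  · intro hy
    have : (Cone.pointed 𝒜).ι y ∈ Set.range (Spec.map (CommRingCat.ofHom (algebraMap A (Localization.Away f)))) := by
      rw [range_algebraMap]; exact hy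
    obtain ⟨w, hw⟩ := this
    refine ⟨w, (Cone.pointed 𝒜).ι.isOpenEmbedding.injective ?_⟩
    rw [← Scheme.Hom.comp_apply, chart_ι]
    exact hw

/-- The chart with Laurent coordinate ring. -/
noncomputable def laurentChart {f : A} (hf : f ∈ 𝒜 1) :
    Spec (CommRingCat.of (LaurentPolynomial (Away 𝒜 f))) ⟶ (Cone.pointed 𝒜).toScheme :=
  (Scheme.Spec.mapIso (ProjLib.laurentEquiv hf).toCommRingCatIso.op).inv ≫ Cone.chart hf one_pos

theorem isPullback_laurentChart {f : A} (hf : f ∈ 𝒜 1) :
    IsPullback (laurentChart hf)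
      (Spec.map (CommRingCat.ofHom (LaurentPolynomial.C : Away 𝒜 f →+* LaurentPolynomial (Away 𝒜 f))))
      (retr (𝒜 := 𝒜)) (Proj.awayι 𝒜 f hf one_pos) := by
  have : IsOpenImmersion (laurentChart hf) := by unfold laurentChart; infer_instance
  refine FibreLib.isPullback_chart _ _ _ _ ?_ ?_
  · dsimp only [laurentChart]; rw [Category.assoc, chart_retr, piece, ← ProjLib.laurentEquiv_comp_C hf,
      ← Category.assoc]
    congr 1
    simp only [Functor.mapIso_inv, Scheme.Spec_map, Iso.op_inv, Quiver.Hom.unop_op]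
    rw [← Spec.map_comp]
    congr 1
    refine CommRingCat.hom_ext (RingHom.ext fun q ↦ ?_)
    exact (ProjLib.laurentEquiv hf).symm_apply_apply _
  · dsimp only [laurentChart]; rw [Scheme.Hom.opensRange_comp_of_isIso, chart_opensRange]

end Groth.Agent.ConeLib
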