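import Groth.Prelude.Def_Cone
import Groth.Agent.ProjLib.DomMap
import Groth.Agent.ProjLib.GradedGen

/-! The retraction of the pointed affine cone over an affine base. -/

set_option autoImplicit false
set_option linter.unusedSectionVars false

namespace Groth.Agent.ConeLib

open CategoryTheory CategoryTheory.Limits AlgebraicGeometry TopologicalSpace
open HomogeneousLocalization

universe u

variable {R A : Type u} [CommRing R] [CommRing A] [Algebra R A] {𝒜 : ℕ → Submodule R A} [GradedAlgebra 𝒜]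

@[reassoc]
theorem chart_ι {d : ℕ} {f : A} (hf : f ∈ 𝒜 d) (hd : 0 < d) :
    Cone.chart hf hd ≫ (Cone.pointed 𝒜).ι =
      Spec.map (CommRingCat.ofHom (algebraMap A (Localization.Away f))) :=
  IsOpenImmersion.lift_fac _ _ _

instance {d : ℕ} {f : A} (hf : f ∈ 𝒜 d) (hd : 0 < d) :
    IsOpenImmersion (Cone.chart hf hd) := by
  have : IsOpenImmersion (Spec.map (CommRingCat.ofHom (algebraMap A (Localization.Away f)))) :=
    IsOpenImmersion.of_isLocalization f
  have : IsOpenImmersion (Cone.chart hf hd ≫ (Cone.pointed 𝒜).ι) := by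
    rw [chart_ι]; infer_instance
  exact IsOpenImmersion.of_comp _ (Cone.pointed 𝒜).ι

theorem range_algebraMap (f : A) :
    Set.range (Spec.map (CommRingCat.ofHom (algebraMap A (Localization.Away f)))) =
      (PrimeSpectrum.basicOpen f : Set (PrimeSpectrum A)) :=
  PrimeSpectrum.localization_away_comap_range (Localization.Away f) f

theorem exists_homogeneous_notMem {x : Spec (CommRingCat.of A)} (hx : x ∈ Cone.pointed 𝒜) :
    ∃ (d : ℕ) (_ : 0 < d) (f : A), f ∈ 𝒜 d ∧ f ∉ x.asIdeal := by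
  by_contra h
  push Not at h
  exact hx ((PrimeSpectrum.mem_zeroLocus _ _).mpr
    (ProjLib.irrelevant_le_of_homogeneous 𝒜 fun n hn b hb ↦ h n hn b hb))

/-- The cover of the pointed cone by its charts. -/
noncomputable def cover : (Cone.pointed 𝒜).toScheme.OpenCover :=
  Scheme.Cover.mkOfCovers (Σ d : {d : ℕ // 0 < d}, {f // f ∈ 𝒜 d.1})
    (fun i ↦ Spec (.of (Localization.Away i.2.1))) (fun i ↦ Cone.chart i.2.2 i.1.2)
    (fun x ↦ by
      obtain ⟨d, hd, f, hf, hfx⟩ := exists_homogeneous_notMem (𝒜 := 𝒜) (x := x.1) x.2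
      have : x.1 ∈ Set.range (Spec.map (CommRingCat.ofHom (algebraMap A (Localization.Away f)))) := by
        rw [range_algebraMap]; exact hfx
      obtain ⟨y, hy⟩ := this
      refine ⟨⟨⟨d, hd⟩, f, hf⟩, y, Subtype.ext ?_⟩
      show (Cone.pointed 𝒜).ι (Cone.chart hf hd y) = x.1
      rw [← Scheme.Hom.comp_apply, chart_ι]
      exact hy)

theorem hom_ext {Z : Scheme.{u}} {a b : (Cone.pointed 𝒜).toScheme ⟶ Z}
    (h : ∀ (d : ℕ) (hd : 0 < d) (f : A) (hf : f ∈ 𝒜 d),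
      Cone.chart hf hd ≫ a = Cone.chart hf hd ≫ b) : a = b :=
  (cover (𝒜 := 𝒜)).hom_ext _ _ fun i ↦ h _ i.1.2 _ i.2.2

/-- The retraction on one chart. -/
noncomputable def piece {d : ℕ} {f : A} (hf : f ∈ 𝒜 d) (hd : 0 < d) :
    Spec (CommRingCat.of (Localization.Away f)) ⟶ Proj 𝒜 :=
  Spec.map (CommRingCat.ofHom (algebraMap (Away 𝒜 f) (Localization.Away f))) ≫
    Proj.awayι 𝒜 f hf hd

/-- `A_f → A_g` for `f ∣ g`. -/
noncomputable def locMap {f g : A} (h : f ∣ g) : Localization.Away f →+* Localization.Away g :=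
  IsLocalization.Away.lift f (g := algebraMap A (Localization.Away g))
    (isUnit_of_dvd_unit (map_dvd _ h) (IsLocalization.Away.algebraMap_isUnit g))

theorem locMap_comp {f g : A} (h : f ∣ g) :
    (locMap h).comp (algebraMap A (Localization.Away f)) = algebraMap A (Localization.Away g) :=
  IsLocalization.Away.lift_comp f _

theorem piece_mul {d d' : ℕ} (hd : 0 < d) {f f' : A} (hf : f ∈ 𝒜 d) (hf' : f' ∈ 𝒜 d')
    {g : A} (hg : g = f * f') (hgd : g ∈ 𝒜 (d + d')) :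
    Spec.map (CommRingCat.ofHom (locMap (Dvd.intro f' hg.symm))) ≫ piece hf hd =
      piece hgd (Nat.add_pos_left hd d') := by
  rw [piece, piece, ← Proj.SpecMap_awayMap_awayι 𝒜 hf hd hf' (x := g) hg,
    ← Spec.map_comp_assoc, ← Spec.map_comp_assoc, ← CommRingCat.ofHom_comp, ← CommRingCat.ofHom_comp]
  congr 3
  refine RingHom.ext fun q ↦ ?_
  obtain ⟨n, a, ha, rfl⟩ := Away.mk_surjective 𝒜 hf q
  simp only [RingHom.comp_apply, HomogeneousLocalization.algebraMap_apply]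
  rw [awayMap_mk, Away.val_mk, Away.val_mk]
  subst hg
  rw [Localization.mk_eq_mk', Localization.mk_eq_mk']
  refine IsLocalization.eq_mk'_iff_mul_eq.mpr ?_
  have h1 : IsLocalization.mk' (Localization.Away f) a
      (⟨f ^ n, n, rfl⟩ : Submonoid.powers f) * algebraMap A _ (f ^ n) = algebraMap A _ a :=
    IsLocalization.mk'_spec _ _ _
  have h2 := congrArg (locMap (Dvd.intro f' rfl : f ∣ f * f')) h1
  rw [map_mul, ← RingHom.comp_apply (locMap _) (algebraMap A _), ← RingHom.comp_apply (locMap _) (algebraMap A _),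
    locMap_comp] at h2
  show _ * algebraMap A _ ((f * f') ^ n) = algebraMap A _ (a * f' ^ n)
  rw [mul_pow, map_mul, map_mul, ← mul_assoc, h2]

theorem compat {T : Scheme.{u}} {d d' : ℕ} (hd : 0 < d) (hd' : 0 < d') {f f' : A} (hf : f ∈ 𝒜 d)
    (hf' : f' ∈ 𝒜 d') (a : T ⟶ Spec (CommRingCat.of (Localization.Away f)))
    (b : T ⟶ Spec (CommRingCat.of (Localization.Away f')))
    (h : a ≫ Cone.chart hf hd = b ≫ Cone.chart hf' hd') : a ≫ piece hf hd = b ≫ piece hf' hd' := by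
  let αf := Spec.map (CommRingCat.ofHom (algebraMap A (Localization.Away f)))
  let αf' := Spec.map (CommRingCat.ofHom (algebraMap A (Localization.Away f')))
  let αg := Spec.map (CommRingCat.ofHom (algebraMap A (Localization.Away (f * f'))))
  have : IsOpenImmersion αg := IsOpenImmersion.of_isLocalization (f * f')
  have : IsOpenImmersion αf := IsOpenImmersion.of_isLocalization f
  have : IsOpenImmersion αf' := IsOpenImmersion.of_isLocalization f'
  have he : a ≫ αf = b ≫ αf' := by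
    simp only [αf, αf', ← chart_ι hf hd, ← chart_ι hf' hd', reassoc_of% h]
  have hr : Set.range (a ≫ αf) ⊆ Set.range αg := by
    rintro _ ⟨t, rfl⟩
    have h1 : (a ≫ αf) t ∈ (PrimeSpectrum.basicOpen f : Set (PrimeSpectrum A)) := by
      rw [← range_algebraMap f]; exact ⟨a t, rfl⟩
    have h2 : (a ≫ αf) t ∈ (PrimeSpectrum.basicOpen f' : Set (PrimeSpectrum A)) := by
      rw [← range_algebraMap f', he]; exact ⟨b t, rfl⟩
    rw [range_algebraMap]
    show (a ≫ αf) t ∈ PrimeSpectrum.basicOpen (f * f')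
    rw [PrimeSpectrum.basicOpen_mul]
    exact ⟨h1, h2⟩
  let c := IsOpenImmersion.lift αg (a ≫ αf) hr
  have ha : c ≫ Spec.map (CommRingCat.ofHom (locMap (Dvd.intro f' rfl : f ∣ f * f'))) = a := by
    rw [← cancel_mono αf, Category.assoc, ← Spec.map_comp, ← CommRingCat.ofHom_comp, locMap_comp,
      IsOpenImmersion.lift_fac]
  have hb : c ≫ Spec.map (CommRingCat.ofHom (locMap (Dvd.intro f (mul_comm f' f) : f' ∣ f * f'))) = b := by
    rw [← cancel_mono αf', Category.assoc, ← Spec.map_comp, ← CommRingCat.ofHom_comp, locMap_comp,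
      IsOpenImmersion.lift_fac]
    exact he
  rw [← ha, ← hb, Category.assoc, Category.assoc,
    piece_mul hd hf hf' rfl (SetLike.mul_mem_graded hf hf'),
    piece_mul hd' hf' hf (mul_comm f f')
      (by rw [Nat.add_comm d' d]; exact SetLike.mul_mem_graded hf hf')]
  have key : ∀ (n : ℕ) (hn : 0 < n) (hm : f * f' ∈ 𝒜 n) (m : ℕ) (hm0 : 0 < m) (hmm : f * f' ∈ 𝒜 m),
      n = m → piece hm hn = piece hmm hm0 := by
    rintro n hn hm m hm0 hmm rfl; rfl
  rw [key _ (Nat.add_pos_left hd d') _ _ (Nat.add_pos_left hd' d) _ (Nat.add_comm d d')]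

/-- The retraction `E ⟶ Proj 𝒜`. -/
noncomputable def retr : (Cone.pointed 𝒜).toScheme ⟶ Proj 𝒜 :=
  (cover (𝒜 := 𝒜)).glueMorphisms (fun i ↦ piece i.2.2 i.1.2) fun i j ↦
    compat i.1.2 j.1.2 i.2.2 j.2.2 (pullback.fst _ _) (pullback.snd _ _) pullback.condition

@[reassoc]
theorem chart_retr {d : ℕ} {f : A} (hf : f ∈ 𝒜 d) (hd : 0 < d) :
    Cone.chart hf hd ≫ retr = piece hf hd :=
  (cover (𝒜 := 𝒜)).ι_glueMorphisms _ _ ⟨⟨d, hd⟩, f, hf⟩

theorem eq_retr (π : (Cone.pointed 𝒜).toScheme ⟶ Proj 𝒜)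
    (hπ : ∀ (d : ℕ) (f : A) (hd : 0 < d) (hf : f ∈ 𝒜 d),
      Cone.chart hf hd ≫ π =
        Spec.map (CommRingCat.ofHom (algebraMap (Away 𝒜 f) (Localization.Away f))) ≫
          Proj.awayι 𝒜 f hf hd) : π = retr :=
  hom_ext fun d hd f hf ↦ (hπ d f hd hf).trans (chart_retr hf hd).symm

theorem retr_preimage {d : ℕ} {f : A} (hf : f ∈ 𝒜 d) (hd : 0 < d) :
    (retr (𝒜 := 𝒜)) ⁻¹ᵁ Proj.basicOpen 𝒜 f = (Cone.pointed 𝒜).ι ⁻¹ᵁ Cone.coneOpen f := by
  ext x
  obtain ⟨⟨⟨d', hd'⟩, f', hf'⟩, y, rfl⟩ := (cover (𝒜 := 𝒜)).exists_eq x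
  show retr (Cone.chart hf' hd' y) ∈ Proj.basicOpen 𝒜 f ↔
    (Cone.pointed 𝒜).ι (Cone.chart hf' hd' y) ∈ Cone.coneOpen f
  rw [← Scheme.Hom.comp_apply, ← Scheme.Hom.comp_apply, chart_retr, chart_ι]
  have h1 := SetLike.ext_iff.mp (Proj.awayι_preimage_basicOpen 𝒜 hf' hd' hf hd)
    (Spec.map (CommRingCat.ofHom (algebraMap (Away 𝒜 f') (Localization.Away f'))) y)
  refine h1.trans ?_
  show algebraMap (Away 𝒜 f') (Localization.Away f') (Away.isLocalizationElem hf' hf) ∉ y.asIdeal ↔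
    algebraMap A (Localization.Away f') f ∉ y.asIdeal
  rw [HomogeneousLocalization.algebraMap_apply, Away.isLocalizationElem, Away.val_mk,
    Localization.mk_eq_mk']
  refine not_congr ?_
  rw [← Ideal.mul_unit_mem_iff_mem y.asIdeal
    ((IsLocalization.Away.algebraMap_isUnit (S := Localization.Away f') f').pow d)]
  rw [← map_pow, IsLocalization.mk'_spec, map_pow]
  exact ⟨fun h ↦ y.isPrime.mem_of_pow_mem _ h, fun h ↦ Ideal.pow_mem_of_mem _ h _ hd'⟩

theorem asHomogeneousIdeal_retr (p : (Cone.pointed 𝒜).toScheme) :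
    (retr (𝒜 := 𝒜) p).asHomogeneousIdeal = ((Cone.pointed 𝒜).ι p).asIdeal.homogeneousCore 𝒜 := by
  classical
  obtain ⟨dg, hdg, g, hg, hgp⟩ := exists_homogeneous_notMem (𝒜 := 𝒜) (x := p.1) p.2
  have key : ∀ (n : ℕ) (a : A), a ∈ 𝒜 n →
      (a ∈ (retr (𝒜 := 𝒜) p).asHomogeneousIdeal ↔ a ∈ ((Cone.pointed 𝒜).ι p).asIdeal) := by
    have hpos : ∀ (n : ℕ), 0 < n → ∀ a ∈ 𝒜 n,
        (a ∈ (retr (𝒜 := 𝒜) p).asHomogeneousIdeal ↔ a ∈ ((Cone.pointed 𝒜).ι p).asIdeal) :=
      fun n hn a ha ↦ not_iff_not.mp (SetLike.ext_iff.mp (retr_preimage ha hn) p)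
    intro n a ha
    have h1 := hpos (n + dg) (Nat.add_pos_right n hdg) (a * g) (SetLike.mul_mem_graded ha hg)
    have hgr : g ∉ (retr (𝒜 := 𝒜) p).asHomogeneousIdeal := fun hh ↦ hgp ((hpos dg hdg g hg).mp hh)
    constructor
    · intro hax
      exact (((Cone.pointed 𝒜).ι p).isPrime.mem_or_mem
        (h1.mp (Ideal.mul_mem_right g _ hax))).resolve_right hgp
    · intro hay
      exact ((retr (𝒜 := 𝒜) p).isPrime.mem_or_mem
        (h1.mpr (Ideal.mul_mem_right g _ hay))).resolve_right hgr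
  refine HomogeneousIdeal.ext (Ideal.ext fun a ↦ ⟨fun ha ↦ ?_, fun ha ↦ ?_⟩)
  · rw [← DirectSum.sum_support_decompose 𝒜 a]
    exact sum_mem fun n _ ↦ Ideal.mem_homogeneousCore_of_homogeneous_of_mem (𝒜 := 𝒜)
      ⟨n, (DirectSum.decompose 𝒜 a n).2⟩
      ((key n _ (DirectSum.decompose 𝒜 a n).2).mp ((retr (𝒜 := 𝒜) p).asHomogeneousIdeal.isHomogeneous n ha))
  · rw [← DirectSum.sum_support_decompose 𝒜 a]
    exact sum_mem fun n _ ↦ (key n _ (DirectSum.decompose 𝒜 a n).2).mpr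
      (Ideal.toIdeal_homogeneousCore_le 𝒜 _ ((((Cone.pointed 𝒜).ι p).asIdeal.homogeneousCore 𝒜).isHomogeneous n ha))

theorem surjective_retr : Function.Surjective (retr (𝒜 := 𝒜)) := by
  intro x
  let p : Spec (CommRingCat.of A) := ⟨x.asHomogeneousIdeal.toIdeal, x.isPrime⟩
  have hp : p ∈ Cone.pointed 𝒜 := fun h ↦ x.not_irrelevant_le ((PrimeSpectrum.mem_zeroLocus _ _).mp h)
  refine ⟨⟨p, hp⟩, ProjectiveSpectrum.ext ?_⟩
  exact (asHomogeneousIdeal_retr ⟨p, hp⟩).trans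
    (Ideal.IsHomogeneous.toIdeal_homogeneousCore_eq_self x.asHomogeneousIdeal.isHomogeneous |> HomogeneousIdeal.ext)

set_option backward.isDefEq.respectTransparency.types false in
theorem isAffineHom_retr : IsAffineHom (retr (𝒜 := 𝒜)) := by
  refine isAffineHom_of_forall_exists_isAffineOpen _ fun x ↦ ?_
  obtain ⟨⟨⟨d, hd⟩, f, hf⟩, hx⟩ := Opens.mem_iSup.mp
    ((ProjLib.iSup_basicOpen_pos (𝒜 := 𝒜)).ge (Set.mem_univ x))
  refine ⟨_, hx, Proj.isAffineOpen_basicOpen 𝒜 f hf hd, ?_⟩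
  rw [retr_preimage hf hd, ← (Cone.pointed 𝒜).ι.isAffineOpen_iff_of_isOpenImmersion,
    Scheme.Hom.image_preimage_eq_opensRange_inf, Scheme.Opens.opensRange_ι, inf_eq_right.mpr]
  · exact IsAffineOpen.Spec_basicOpen (R := CommRingCat.of A) f
  · exact fun y hy h ↦ hy ((PrimeSpectrum.mem_zeroLocus _ _).mp h (ProjLib.mem_irrelevant_of_pos 𝒜 hd hf))

end Groth.Agent.ConeLib
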